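import Groth.Agent.IntCover.ProdField
import Groth.Agent.AlgSpDec.CodimZero
import Groth.Agent.AlgSpPts.Dim
import Groth.Agent.AlgSpDec.ResTrdeg

/-!
# Etale schemes over products of algebraically closed fields
-/

set_option autoImplicit false
set_option backward.isDefEq.respectTransparency false
set_option backward.isDefEq.respectTransparency.types false

universe u

open CategoryTheory CategoryTheory.Limits AlgebraicGeometry Topology

namespace Groth.Agent.IntCover

/-- Points of codimension zero of a quasi-separated scheme are separated by clopen subsets. -/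
theorem exists_clopen_separating {P : Scheme.{u}} [QuasiSeparatedSpace P] (h0 : ∀ z : P, Order.coheight z = 0)
    {a b : P} (hab : a ≠ b) : ∃ O : P.Opens, IsClosed (O : Set P) ∧ a ∈ O ∧ b ∉ O := by
  have hn : ¬ b ⤳ a := fun h => hab (AlgSpDec.eq_of_specializes_of_coheight (h0 a) h).symm
  obtain ⟨O, hO, haO, hbO⟩ := not_specializes_iff_exists_open.1 hn
  obtain ⟨V, hV, haV, hVO⟩ := exists_isAffineOpen_mem_and_subset (U := (⟨O, hO⟩ : P.Opens)) haO
  refine ⟨V, closure_subset_iff_isClosed.1 fun z hz => by_contra fun hzV => ?_, haV, fun hb => hbO (hVO hb)⟩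
  exact AlgSpDec.notMem_closure_of_isCompact hV.isCompact V.isOpen (h0 z) hzV hz

/-- Over an algebraically closed residue field the only point of the self-product lying twice over the same
point is the diagonal one. -/
theorem mem_range_diagonal_of_isAlgClosed {P W : Scheme.{u}} (π : P ⟶ W) [Etale π] (ρ : (pullback π π : Scheme.{u}))
    (h : pullback.fst π π ρ = pullback.snd π π ρ) [IsAlgClosed (W.residueField (π (pullback.fst π π ρ)))] :
    ρ ∈ Set.range (pullback.diagonal π) := by
  let Q : Scheme.{u} := pullback π π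
  let a := pullback.fst π π ρ
  have hfin : (π.residueFieldMap a).hom.Finite :=
    CycLib.finite_residueFieldMap_of_rd_eq_zero π a (FibDim.rd_eq_zero_of_quasiFinite π a)
  have hbij : Function.Bijective (π.residueFieldMap a).hom :=
    IsAlgClosed.ringHom_bijective_of_isIntegral _ hfin.to_isIntegral
  have : IsIso (π.residueFieldMap a) := (ConcreteCategory.isIso_iff_bijective _).2 hbij
  let m : Spec (Q.residueField ρ) ⟶ Q := Q.fromSpecResidueField ρ
  have e1 : m ≫ pullback.fst π π = Spec.map ((pullback.fst π π).residueFieldMap ρ) ≫ P.fromSpecResidueField a :=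
    ((pullback.fst π π).SpecMap_residueFieldMap_fromSpecResidueField ρ).symm
  have e2 : m ≫ pullback.snd π π =
      Spec.map ((P.residueFieldCongr h).hom ≫ (pullback.snd π π).residueFieldMap ρ) ≫ P.fromSpecResidueField a := by
    rw [Spec.map_comp, Category.assoc, Scheme.residueFieldCongr_fromSpecResidueField,
      Scheme.Hom.SpecMap_residueFieldMap_fromSpecResidueField]
  have key : (pullback.fst π π).residueFieldMap ρ =
      (P.residueFieldCongr h).hom ≫ (pullback.snd π π).residueFieldMap ρ := by
    rw [← cancel_epi (π.residueFieldMap a)]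
    have h3 := congrArg (m ≫ ·) (pullback.condition (f := π) (g := π))
    simp only [← Category.assoc, e1, e2] at h3
    simp only [Category.assoc, ← π.SpecMap_residueFieldMap_fromSpecResidueField, ← Spec.map_comp_assoc] at h3
    have hm : Mono (W.fromSpecResidueField (π a)) := inferInstance
    rw [cancel_mono] at h3
    exact Spec.map_injective h3
  have hm2 : m = (m ≫ pullback.fst π π) ≫ pullback.diagonal π := by
    apply pullback.hom_ext
    · simp
    · simp only [Category.assoc, pullback.diagonal_snd, Category.comp_id]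
      rw [e1, e2, key]
  refine ⟨(m ≫ pullback.fst π π) (IsLocalRing.closedPoint _), ?_⟩
  rw [← Scheme.Hom.comp_apply, ← hm2]
  exact Q.fromSpecResidueField_apply ρ _

/-- Around a point, no pair of the clopen part of a relation meets a small open, if none specializes to it. -/
theorem exists_open_avoiding_pairs {R V : Scheme.{u}} [CompactSpace R] [QuasiSeparatedSpace R]
    [QuasiSeparatedSpace V] (t s : R ⟶ V) [QuasiCompact t] [QuasiCompact s] {E : R.Opens}
    (hE : IsClosed (E : Set R)) (v : V) (h : ∀ r ∈ E, t r ⤳ v → s r ⤳ v → False) :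
    ∃ O : V.Opens, v ∈ O ∧ ∀ r ∈ E, t r ∈ O → s r ∉ O := by
  by_contra hcon
  push Not at hcon
  let ι := {U : V.Opens // IsCompact (U : Set V) ∧ v ∈ U}
  have : Nonempty ι := by
    obtain ⟨U, hU, hvU, -⟩ := exists_isAffineOpen_mem_and_subset (U := (⊤ : V.Opens)) (x := v) trivial
    exact ⟨⟨U, hU.isCompact, hvU⟩⟩
  have hEc : ProConsLib.ConsClosed (E : Set R) :=
    ProConsLib.consClosed_of_isConstructible ((hE.isCompact).isConstructible E.isOpen)
  have hcl : ∀ U : ι, IsClosed[constructibleTopology R] ((E : Set R) ∩ (t ⁻¹' U.1 ∩ s ⁻¹' U.1)) := fun U =>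
    ProConsLib.consClosed_inter hEc (ProConsLib.consClosed_inter
      (ProConsLib.consClosed_of_isConstructible
        ((t.isSpectralMap.isCompact_preimage_of_isOpen U.1.isOpen U.2.1).isConstructible
          (U.1.isOpen.preimage t.continuous)))
      (ProConsLib.consClosed_of_isConstructible
        ((s.isSpectralMap.isCompact_preimage_of_isOpen U.1.isOpen U.2.1).isConstructible
          (U.1.isOpen.preimage s.continuous))))
  have hne : (⋂ U : ι, (E : Set R) ∩ (t ⁻¹' U.1 ∩ s ⁻¹' U.1)).Nonempty := by
    refine @IsCompact.nonempty_iInter_of_directed_nonempty_isCompact_isClosed R (constructibleTopology R) ι _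
      (fun U : ι => (E : Set R) ∩ (t ⁻¹' U.1 ∩ s ⁻¹' U.1)) ?_ ?_ ?_ hcl
    · intro U U'
      exact ⟨⟨U.1 ⊓ U'.1, QuasiSeparatedSpace.inter_isCompact _ _ U.1.isOpen U.2.1 U'.1.isOpen U'.2.1,
          U.2.2, U'.2.2⟩,
        fun z hz => ⟨hz.1, hz.2.1.1, hz.2.2.1⟩, fun z hz => ⟨hz.1, hz.2.1.2, hz.2.2.2⟩⟩
    · intro U
      obtain ⟨r, hr, h1, h2⟩ := hcon U.1 U.2.2
      exact ⟨r, hr, h1, h2⟩
    · exact fun U => @IsClosed.isCompact R (constructibleTopology R) _ ProConsLib.compactSpace_cons (hcl U)
  obtain ⟨r, hr⟩ := hne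
  rw [Set.mem_iInter] at hr
  refine h r (hr (Classical.arbitrary ι)).1 ?_ ?_ <;>
  · rw [specializes_iff_forall_open]
    intro O hO hvO
    obtain ⟨U, ⟨hU, hU'⟩, hvU, hUO⟩ := PrespectralSpace.isTopologicalBasis.exists_subset_of_mem_open hvO hO
    first
      | exact hUO (hr ⟨⟨U, hU⟩, hU', hvU⟩).2.1
      | exact hUO (hr ⟨⟨U, hU⟩, hU', hvU⟩).2.2

end Groth.Agent.IntCover
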