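import Groth.Agent.IntCover.Lift
import Groth.Agent.IntCover.Topology
import Groth.Agent.EtFound.SectionUnr
import Groth.Agent.AlgStLib.SpProps
import Groth.Agent.AlgSpPts.OpenSub
import Groth.Agent.AlgSpPts.Descent
import Groth.Agent.AlgSpPts.SepDescent
import Groth.Agent.AlgSpLib.FpqcDescent
import Groth.Agent.AlgSpDec.LqfScheme
import Mathlib.FieldTheory.IsAlgClosed.AlgebraicClosure

/-!
# Integral surjective covers by schemes
-/

set_option autoImplicit false
set_option backward.isDefEq.respectTransparency false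
set_option backward.isDefEq.respectTransparency.types false

universe u

open CategoryTheory CategoryTheory.Limits AlgebraicGeometry AlgSp Groth.Agent.AlgSpLib Groth.Agent.AlgSpDec
  Groth.Agent.AlgSpPts Groth.Agent.RelNorm

namespace Groth.Agent.IntCover

variable {S : Scheme.{u}}

/-- A given atlas of a quasi-compact space is refined by an affine one. -/
theorem exists_affine_refine {X : Sp S} (hqc : IsQuasiCompactSp X) {U : Over S} {p : (yon S).obj U ⟶ X}
    (h1 : RepWith @Etale p) (h2 : RepWith @Surjective p) :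
    ∃ (V : Over S) (k : V ⟶ U), IsAffine V.left ∧ RepWith @Etale ((yon S).map k ≫ p) ∧
      RepWith @Surjective ((yon S).map k ≫ p) := by
  have : CompactSpace (Points X) := compactSpace_points hqc
  obtain ⟨t, ht⟩ := (isCompact_univ (X := Points X)).elim_finite_subcover
    (fun K : U.left.affineOpens => Points.ofPt p '' (K.1 : Set U.left))
    (fun K => isOpenMap_ofPt h1 _ K.1.2) fun x _ => by
      obtain ⟨w, rfl⟩ := surjective_ofPt h2 x
      obtain ⟨K, hK, hw, -⟩ := exists_isAffineOpen_mem_and_subset (U := (⊤ : U.left.Opens)) (x := w) trivial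
      exact Set.mem_iUnion.2 ⟨⟨K, hK⟩, w, hw, rfl⟩
  let W : ↥t → U.left.Opens := fun k => k.1.1
  have : ∀ k, IsAffine (W k).toScheme := fun k => k.1.2
  let jW : (∐ fun k => (W k).toScheme) ⟶ U.left := Sigma.desc fun k => (W k).ι
  have : Etale jW := AlgSpDec.etale_sigma_desc W
  let V : Over S := Over.mk (jW ≫ U.hom)
  let o : V ⟶ U := CategoryTheory.Over.homMk jW rfl
  have ho : RepWith @Etale ((yon S).map o ≫ p) :=
    repWith_comp ((repWith_yon_map_iff _ _).2 (inferInstanceAs (Etale jW))) h1
  refine ⟨V, o, inferInstanceAs (IsAffine (∐ fun k => (W k).toScheme)), ho,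
    repWith_surjective_of_surjective ho.rep fun x => ?_⟩
  obtain ⟨K, hK, w, hw, rfl⟩ := Set.mem_iUnion₂.1 (ht (Set.mem_univ x))
  refine ⟨Points.ofScheme _ (Sigma.ι (fun k => (W k).toScheme) ⟨K, hK⟩ ⟨w, hw⟩), ?_⟩
  rw [← Points.ofPt_eq_map_ofScheme, ofPt_comp]
  show Points.ofPt p (jW _) = _
  rw [← Scheme.Hom.comp_apply, Sigma.ι_desc]
  rfl

/-- A map from an affine scheme to a quasi-separated space is quasi-compact and quasi-separated. -/
theorem qcqs_of_affine [QuasiSeparatedSpace ↥S] {X : Sp S} (hX : IsAlgSpace X) (hqs : IsQuasiSeparatedSp X)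
    {W : Over S} [IsAffine W.left] (g : (yon S).obj W ⟶ X) :
    IsQuasiCompactMor g ∧ IsQuasiSeparatedMor g := by
  refine AlgStLib.cancels_qcqs (IsAlgSpace.yon_obj W) hX (IsAlgSpace.yon_obj _) g ((isTerminalYon S).from X)
    ⟨?_, ?_⟩ ((isQuasiSeparatedSp_iff_mor X).1 hqs)
  · rw [(isTerminalYon S).hom_ext (g ≫ (isTerminalYon S).from X) ((isTerminalYon S).from _)]
    exact isQuasiCompactMor_toBase (IsAlgSpace.yon_obj W) (isQuasiCompactSp_yon_affine W)
  · rw [(isTerminalYon S).hom_ext (g ≫ (isTerminalYon S).from X) ((yon S).map (Over.mkIdTerminal.from W)),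
      isQuasiSeparatedMor_yon_map_iff]
    infer_instance

/-- The chart of a normalization in a source with separated minimal points which are split over their
images: the spaces are schemes near every point. -/
theorem exists_open_chart_of_split [QuasiSeparatedSpace ↥S] {Y : Sp S} (hY : IsAlgSpace Y) (hYqs : IsQuasiSeparatedSp Y)
    {T V P W : Over S} [IsAffine T.left] [IsAffine V.left] {a : (yon S).obj V ⟶ Y} (ha : RepWith @Etale a)
    {π : P ⟶ W} {q : P ⟶ T} {ν : V ⟶ T} {j : P ⟶ V} {f' : (yon S).obj W ⟶ Y}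
    (sqP : IsPullback ((yon S).map π) ((yon S).map j) f' a) [Etale π.left] [CompactSpace ↥P.left]
    [QuasiSeparatedSpace ↥P.left]
    (hsepP : ∀ z z' : ↥P.left, Order.coheight z = 0 → Order.coheight z' = 0 → z ≠ z' →
      ∃ O : P.left.Opens, IsClosed (O : Set P.left) ∧ z ∈ O ∧ z' ∉ O)
    (hdiagP : ∀ ρ : ↥(pullback π.left π.left), pullback.fst π.left π.left ρ = pullback.snd π.left π.left ρ →
      Order.coheight (pullback.fst π.left π.left ρ) = 0 → ρ ∈ Set.range (pullback.diagonal π.left))
    (hn : IsRelNormalization ((yon S).map q) ((yon S).map ν) ((yon S).map j)) (v : ↥V.left) :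
    ∃ (O : V.left.Opens), v ∈ O ∧
      RepWith @IsOpenImmersion ((yon S).map (CategoryTheory.Over.homMk O.ι rfl : Over.mk (O.ι ≫ V.hom) ⟶ V) ≫ a) := by
  -- minimal points of the chart come from the source
  have hlift : ∀ v₀ : V.left, Order.coheight v₀ = 0 → ∃ z, Order.coheight z = 0 ∧ j.left z = v₀ := by
    obtain ⟨P', θ, hP', hθ, hθs⟩ := CartierRegular.exists_affine_atlas (IsAlgSpace.yon_obj P)
      ((isQuasiCompactSp_yon_iff P).2 inferInstance)
    obtain ⟨φ, hφ⟩ := (yon S).map_surjective (θ ≫ (yon S).map j)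
    have := isDominant_of_isRelNormalization hn hθ hθs hφ
    intro v₀ hv₀
    obtain ⟨z', hz'⟩ := ProConsLib.exists_specializes_of_mem_closure_range φ.left.isSpectralMap
      (y := v₀) (by rw [φ.left.denseRange.closure_range]; trivial)
    obtain ⟨θ', hθ'⟩ := (yon S).map_surjective θ
    have e : θ' ≫ j = φ := (yon S).map_injective (by rw [Functor.map_comp, hθ', hφ])
    obtain ⟨z, hz, hz0⟩ := CodimQf.exists_coheight_zero_specializes (θ'.left z')
    refine ⟨z, hz0, eq_of_specializes_of_coheight hv₀ ((hz.map j.left.continuous).trans ?_)⟩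
    rw [← Scheme.Hom.comp_apply, ← Over.comp_left, e]
    exact hz'
  -- distinct points of the source are separated by idempotents of the chart
  have hsepV : ∀ z z' : P.left, Order.coheight z = 0 → Order.coheight z' = 0 → z ≠ z' → ∃ K : Set V.left, IsClopen K ∧ j.left z ∈ K ∧ j.left z' ∉ K := by
    intro z z' hz0 hz0' hzz
    obtain ⟨O, hO, hzO, hzO'⟩ := hsepP z z' hz0 hz0' hzz
    obtain ⟨e, he, heO⟩ := HensCouple7.exists_idempotent_of_isClopen ⟨hO, O.isOpen⟩
    obtain ⟨b, hb, hbe⟩ := exists_idempotent_lift hn e he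
    refine ⟨V.left.basicOpen b, ⟨?_, (V.left.basicOpen b).isOpen⟩, ?_, ?_⟩
    · rw [← compl_compl (V.left.basicOpen b : Set V.left), ← HensCouple7.basicOpen_compl_of_idem hb]
      exact (V.left.basicOpen (1 - b)).isOpen.isClosed_compl
    all_goals
      have hpre : j.left ⁻¹ᵁ V.left.basicOpen b = P.left.basicOpen e := by
        rw [← hbe]; exact Scheme.preimage_basicOpen_top j.left b
    · have : z ∈ j.left ⁻¹ᵁ V.left.basicOpen b := by rw [hpre, ← SetLike.mem_coe, heO]; exact hzO
      exact this
    · intro h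
      have : z' ∈ j.left ⁻¹ᵁ V.left.basicOpen b := h
      rw [hpre] at this
      rw [← SetLike.mem_coe, heO] at this
      exact hzO' this
  have hinj : ∀ z z' : P.left, Order.coheight z = 0 → Order.coheight z' = 0 → j.left z = j.left z' → z = z' :=
      fun z z' hz0 hz0' h => by_contra fun hne => by
    obtain ⟨K, -, hK1, hK2⟩ := hsepV z z' hz0 hz0' hne
    exact hK2 (h ▸ hK1)
  -- every point has a unique minimal generalization
  have huniq : ∀ {x v₀ v₁ : V.left}, Order.coheight v₀ = 0 → Order.coheight v₁ = 0 → v₀ ⤳ x → v₁ ⤳ x → v₀ = v₁ := by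
    intro x v₀ v₁ h₀ h₁ s₀ s₁
    obtain ⟨z, hz0, rfl⟩ := hlift v₀ h₀
    obtain ⟨z', hz0', rfl⟩ := hlift v₁ h₁
    by_contra hne
    obtain ⟨K, hK, hK1, hK2⟩ := hsepV z z' hz0 hz0' fun h => hne (h ▸ rfl)
    exact hK2 (s₁.mem_open hK.isOpen (s₀.mem_closed hK.isClosed hK1))
  let R := ha.rep.pullback a
  let t : R ⟶ V := ha.rep.fst' a
  let s : R ⟶ V := ha.rep.snd a
  have sqR : IsPullback ((yon S).map t) ((yon S).map s) a a := ha.rep.isPullback' a
  obtain ⟨Δ₀, hΔ₀⟩ := (yon S).map_surjective (sqR.lift (𝟙 _) (𝟙 _) rfl)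
  have hΔt : Δ₀ ≫ t = 𝟙 V := (yon S).map_injective (by
    rw [Functor.map_comp, hΔ₀, sqR.lift_fst, CategoryTheory.Functor.map_id])
  have hΔs : Δ₀ ≫ s = 𝟙 V := (yon S).map_injective (by
    rw [Functor.map_comp, hΔ₀, sqR.lift_snd, CategoryTheory.Functor.map_id])
  have : Etale t.left := ha.property a _ _ sqR.flip
  have : Etale s.left := ha.property_snd a
  have haq : IsQuasiCompactMor a := (qcqs_of_affine hY hYqs a).1
  have : QuasiCompact t.left := quasiCompact_of_isQuasiCompactMor t (RelNorm.isQuasiCompactMor_of_isPullback sqR.flip haq)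
  have : QuasiCompact s.left := quasiCompact_of_isQuasiCompactMor s (RelNorm.isQuasiCompactMor_of_isPullback sqR haq)
  have : CompactSpace ↥R.left := QuasiCompact.compactSpace_of_compactSpace t.left
  let i : R ⟶ pullback (Over.mkIdTerminal.from V) (Over.mkIdTerminal.from V) :=
    pullback.lift t s (Over.mkIdTerminal.hom_ext _ _)
  have : Mono i := (yon S).mono_of_mono_map ⟨fun x y h => by
    have h1 := h =≫ (yon S).map (pullback.fst _ _)
    have h2 := h =≫ (yon S).map (pullback.snd _ _)
    simp only [Category.assoc, ← Functor.map_comp, i, pullback.lift_fst, pullback.lift_snd] at h1 h2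
    exact sqR.hom_ext h1 h2⟩
  have : Mono i.left := inferInstanceAs (Mono ((Over.forget S).map i))
  have : IsSeparated t.left := by
    have hsq := (IsPullback.of_hasPullback (Over.mkIdTerminal.from V) (Over.mkIdTerminal.from V)).map (Over.forget S)
    have : IsSeparated (Over.mkIdTerminal.from V).left := inferInstance
    have : IsSeparated (pullback.fst (Over.mkIdTerminal.from V) (Over.mkIdTerminal.from V)).left :=
      MorphismProperty.of_isPullback (P := @IsSeparated) hsq.flip this
    rw [show t.left = i.left ≫ (pullback.fst (Over.mkIdTerminal.from V) (Over.mkIdTerminal.from V)).left by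
      rw [← Over.comp_left, pullback.lift_fst]]
    infer_instance
  have hΔt' : Δ₀.left ≫ t.left = 𝟙 V.left := by rw [← Over.comp_left, hΔt]; rfl
  have : IsClosedImmersion (Δ₀.left ≫ t.left) := by rw [hΔt']; infer_instance
  have hΔc : IsClosedImmersion Δ₀.left := .of_comp Δ₀.left t.left
  have hΔo : IsOpenImmersion Δ₀.left := EtFound.isOpenImmersion_section t.left _ hΔt'
  let E : R.left.Opens := ⟨(Set.range Δ₀.left)ᶜ, Δ₀.left.isClosedEmbedding.isClosed_range.isOpen_compl⟩
  have hEc : IsClosed (E : Set R.left) := Δ₀.left.isOpenEmbedding.isOpen_range.isClosed_compl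
  have : QuasiSeparatedSpace ↥R.left := quasiSeparatedSpace_of_quasiSeparated t.left
  -- minimal points of the relation over a single point are diagonal
  have hdiag : ∀ r : R.left, Order.coheight r = 0 → t.left r = s.left r → r ∈ Set.range Δ₀.left := by
    intro r hr hts
    let Q := pullback π π
    let pf : Q ⟶ P := pullback.fst π π
    let ps : Q ⟶ P := pullback.snd π π
    obtain ⟨k, hk⟩ := (yon S).map_surjective (sqR.lift ((yon S).map (pf ≫ j)) ((yon S).map (ps ≫ j)) (by
      rw [Functor.map_comp, Functor.map_comp, Category.assoc, Category.assoc, ← sqP.w, ← Functor.map_comp_assoc,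
        ← Functor.map_comp_assoc, pullback.condition]))
    have hkt : k ≫ t = pf ≫ j := (yon S).map_injective (by rw [Functor.map_comp, hk, sqR.lift_fst])
    have hks : k ≫ s = ps ≫ j := (yon S).map_injective (by rw [Functor.map_comp, hk, sqR.lift_snd])
    have hΔk : pullback.diagonal π ≫ k = j ≫ Δ₀ := (yon S).map_injective (sqR.hom_ext
      (by rw [← Functor.map_comp, ← Functor.map_comp, Category.assoc, hkt, Category.assoc, hΔt,
        pullback.diagonal_fst_assoc, Category.comp_id])
      (by rw [← Functor.map_comp, ← Functor.map_comp, Category.assoc, hks, Category.assoc, hΔs,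
        pullback.diagonal_snd_assoc, Category.comp_id]))
    have sqk : IsPullback ((yon S).map k) ((yon S).map pf) ((yon S).map t) ((yon S).map j) := by
      refine IsPullback.of_right ?_ (by rw [← Functor.map_comp, ← Functor.map_comp, hkt]) sqR.flip
      rw [← Functor.map_comp, hks, ← sqP.w, Functor.map_comp]
      exact (((IsPullback.of_hasPullback π π).map (yon S)).flip.paste_horiz sqP.flip)
    have sqk' : IsPullback k.left pf.left t.left j.left :=
      (IsPullback.of_map (yon S) ((yon S).map_injective (by simpa using sqk.w)) sqk).map (Over.forget S)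
    obtain ⟨z, hz0, hz⟩ := hlift (t.left r) ((coheight_eq_of_etale t.left r).symm.trans hr)
    obtain ⟨ρ, hρ1, hρ2⟩ := Scheme.exists_preimage_of_isPullback sqk' r z hz.symm
    have hρ0 : Order.coheight (pf.left ρ) = 0 := by rw [hρ2]; exact hz0
    have hπe : π.left (ps.left ρ) = π.left (pf.left ρ) := by
      rw [← Scheme.Hom.comp_apply, ← Scheme.Hom.comp_apply, ← Over.comp_left, ← Over.comp_left, pullback.condition]
    have hρ0' : Order.coheight (ps.left ρ) = 0 := by
      rw [coheight_eq_of_etale π.left, hπe, ← coheight_eq_of_etale π.left]; exact hρ0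
    have e : pf.left ρ = ps.left ρ := hinj _ _ hρ0 hρ0' (by
      rw [← Scheme.Hom.comp_apply, ← Scheme.Hom.comp_apply, ← Over.comp_left, ← Over.comp_left, ← hkt, ← hks,
        Over.comp_left, Over.comp_left, Scheme.Hom.comp_apply, Scheme.Hom.comp_apply, hρ1, hts])
    have sqQ := (IsPullback.of_hasPullback π π).map (Over.forget S)
    let c := sqQ.isoPullback
    have hc1 : c.hom ≫ pullback.fst π.left π.left = pf.left := sqQ.isoPullback_hom_fst
    have hc2 : c.hom ≫ pullback.snd π.left π.left = ps.left := sqQ.isoPullback_hom_snd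
    obtain ⟨x, hx⟩ := hdiagP (c.hom ρ) (by
      show (c.hom ≫ pullback.fst π.left π.left) ρ = (c.hom ≫ pullback.snd π.left π.left) ρ
      erw [hc1, hc2]
      exact e) (by
      show Order.coheight ((c.hom ≫ pullback.fst π.left π.left) ρ) = 0
      erw [hc1]
      exact hρ0)
    have hd : (pullback.diagonal π).left ≫ c.hom = pullback.diagonal π.left := by
      apply pullback.hom_ext
      · erw [Category.assoc, hc1, pullback.diagonal_fst]
        rw [← Over.comp_left, pullback.diagonal_fst]; rfl
      · erw [Category.assoc, hc2, pullback.diagonal_snd]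
        rw [← Over.comp_left, pullback.diagonal_snd]; rfl
    have hρ : ρ = (pullback.diagonal π).left x := by
      apply c.hom.homeomorph.injective
      show c.hom ρ = ((pullback.diagonal π).left ≫ c.hom) x
      rw [hd]
      exact hx.symm
    refine ⟨j.left x, ?_⟩
    rw [← hρ1, hρ, ← Scheme.Hom.comp_apply, ← Scheme.Hom.comp_apply, ← Over.comp_left, ← Over.comp_left, hΔk]
  obtain ⟨O, hvO, hO⟩ := exists_open_avoiding_pairs t.left s.left hEc v fun r hr h1 h2 => by
    obtain ⟨r₀, hr₀, hr₀0⟩ := CodimQf.exists_coheight_zero_specializes r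
    have e : t.left r₀ = s.left r₀ := huniq ((coheight_eq_of_etale t.left r₀).symm.trans hr₀0)
      ((coheight_eq_of_etale s.left r₀).symm.trans hr₀0)
      ((hr₀.map t.left.continuous).trans h1) ((hr₀.map s.left.continuous).trans h2)
    exact hr (hr₀.mem_closed Δ₀.left.isClosedEmbedding.isClosed_range (hdiag r₀ hr₀0 e))
  refine ⟨O, hvO, ?_⟩
  let VO : Over S := Over.mk (O.ι ≫ V.hom)
  let o : VO ⟶ V := CategoryTheory.Over.homMk O.ι rfl
  show RepWith @IsOpenImmersion ((yon S).map o ≫ a)
  have hoe : RepWith @Etale ((yon S).map o ≫ a) :=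
    repWith_comp ((repWith_yon_map_iff _ _).2 (inferInstanceAs (Etale O.ι))) ha
  have : Mono o := (Over.forget S).mono_of_mono_map (inferInstanceAs (Mono O.ι))
  have : Mono ((yon S).map o ≫ a) := mono_of_yon_injective fun Z x y h => by
    obtain ⟨x, rfl⟩ := (yon S).map_surjective x
    obtain ⟨y, rfl⟩ := (yon S).map_surjective y
    obtain ⟨r, hr⟩ := (yon S).map_surjective (sqR.lift ((yon S).map (x ≫ o)) ((yon S).map (y ≫ o))
      (by simpa using h))
    have hrt : r ≫ t = x ≫ o := (yon S).map_injective (by rw [Functor.map_comp, hr, sqR.lift_fst])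
    have hrs : r ≫ s = y ≫ o := (yon S).map_injective (by rw [Functor.map_comp, hr, sqR.lift_snd])
    obtain ⟨z, hz⟩ := exists_factor_openImm Δ₀ r fun p => by
      by_contra hp
      refine hO (r.left p) hp ?_ ?_
      · rw [← Scheme.Hom.comp_apply, ← Over.comp_left, hrt]; exact (x.left p).2
      · rw [← Scheme.Hom.comp_apply, ← Over.comp_left, hrs]; exact (y.left p).2
    congr 1
    rw [← cancel_mono o, ← hrt, ← hrs, ← hz, Category.assoc, Category.assoc, hΔt, hΔs]
  exact repWith_isOpenImmersion_of_mono_of_etale (IsAlgSpace.yon_obj VO) hY _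
    (locP_etale_of_isEtaleMor (isEtaleMor_of_repWith hoe))

/-- The chart of an absolutely integrally closed space: the spaces are schemes near every point. -/
theorem exists_open_chart [QuasiSeparatedSpace ↥S] {Y : Sp S} (hY : IsAlgSpace Y) (hYqs : IsQuasiSeparatedSp Y)
    {T V P W : Over S} [IsAffine T.left] [IsAffine V.left] {a : (yon S).obj V ⟶ Y} (ha : RepWith @Etale a)
    {π : P ⟶ W} {q : P ⟶ T} {ν : V ⟶ T} {j : P ⟶ V} {f' : (yon S).obj W ⟶ Y}
    (sqP : IsPullback ((yon S).map π) ((yon S).map j) f' a) [Etale π.left] [CompactSpace ↥P.left]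
    [QuasiSeparatedSpace ↥P.left] (h0 : ∀ w : ↥W.left, Order.coheight w = 0)
    (halg : ∀ w : ↥W.left, IsAlgClosed (W.left.residueField w))
    (hn : IsRelNormalization ((yon S).map q) ((yon S).map ν) ((yon S).map j)) (v : ↥V.left) :
    ∃ (O : V.left.Opens), v ∈ O ∧
      RepWith @IsOpenImmersion ((yon S).map (CategoryTheory.Over.homMk O.ι rfl : Over.mk (O.ι ≫ V.hom) ⟶ V) ≫ a) :=
  exists_open_chart_of_split hY hYqs ha sqP
    (fun _ _ _ _ h => exists_clopen_separating (fun z => (coheight_eq_of_etale π.left z).trans (h0 _)) h)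
    (fun ρ e _ => haveI := halg (π.left (pullback.fst π.left π.left ρ))
      mem_range_diagonal_of_isAlgClosed π.left ρ e) hn v

end Groth.Agent.IntCover
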