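import Groth.Agent.IntCover.Cover
import Groth.Agent.AlgSpLib.AffineDescProps

/-!
# Quasi-compact quasi-separated spaces receive integral surjections from schemes
-/

set_option autoImplicit false
set_option backward.isDefEq.respectTransparency false
set_option backward.isDefEq.respectTransparency.types false

universe u

open CategoryTheory CategoryTheory.Limits AlgebraicGeometry AlgSp Groth.Agent.AlgSpLib Groth.Agent.AlgSpDec
  Groth.Agent.AlgSpPts Groth.Agent.RelNorm

namespace Groth.Agent.IntCover

variable {S : Scheme.{u}}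

theorem exists_integral_surjective_scheme [QuasiSeparatedSpace ↥S] {X : Sp S} (hX : IsAlgSpace X)
    (hqc : IsQuasiCompactSp X) (hqs : IsQuasiSeparatedSp X) {U : Over S} (b : (yon S).obj U ⟶ X)
    (hb : RepWith @Etale b) (hbs : RepWith @Surjective b) :
    ∃ (Y : Over S) (g : (yon S).obj Y ⟶ X), RepWith @IsIntegralHom g ∧ RepWith @Surjective g ∧
      ∀ y : ↥Y.left, ∃ (W : Y.left.Opens) (c : Over.mk (W.ι ≫ Y.hom) ⟶ U), y ∈ W ∧
        (yon S).map c ≫ b = (yon S).map (Over.homMk W.ι rfl : Over.mk (W.ι ≫ Y.hom) ⟶ Y) ≫ g := by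
  obtain ⟨U', k, hU', hφ, hφs⟩ := exists_affine_refine hqc hb hbs
  let φ : (yon S).obj U' ⟶ X := (yon S).map k ≫ b
  let K : ↥U'.left → Type u := fun u => AlgebraicClosure (U'.left.residueField u)
  let ωu : ∀ u, Spec (CommRingCat.of (K u)) ⟶ U'.left := fun u =>
    Spec.map (CommRingCat.ofHom (algebraMap (U'.left.residueField u) (K u))) ≫ U'.left.fromSpecResidueField u
  let ev : Γ(U'.left, ⊤) ⟶ CommRingCat.of (∀ u, K u) :=
    CommRingCat.ofHom (RingHom.pi fun u => (Spec.preimage (ωu u ≫ U'.left.isoSpec.hom)).hom)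
  let W : Over S := Over.mk ((Spec.map ev ≫ U'.left.isoSpec.inv) ≫ U'.hom)
  let ω : W ⟶ U' := CategoryTheory.Over.homMk (Spec.map ev ≫ U'.left.isoSpec.inv) rfl
  have : IsAffine W.left := inferInstanceAs (IsAffine (Spec (CommRingCat.of (∀ u, K u))))
  let g₀ : (yon S).obj W ⟶ X := (yon S).map ω ≫ φ
  obtain ⟨hgc, hgs⟩ := qcqs_of_affine hX hqs g₀
  obtain ⟨Y, ν, f', hY, hst⟩ := exists_stabNorm (IsAlgSpace.yon_obj W) hX g₀ hgc hgs
  have hνr := isIntegralMor_iff_repWith.1 hst.integral
  have hνs : IsSeparatedMor ν := isSeparatedMor_of_repWith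
    (repWith_mono (fun _ _ k (_ : IsIntegralHom k) => inferInstanceAs (IsSeparated k)) _ hνr)
  have hYqs : IsQuasiSeparatedSp Y := by
    rw [isQuasiSeparatedSp_iff_mor, (isTerminalYon S).hom_ext ((isTerminalYon S).from Y) (ν ≫ (isTerminalYon S).from X)]
    exact AlgSpPts.isQuasiSeparatedMor_comp
      (repWith_mono (fun _ _ k (_ : IsClosedImmersion k) => inferInstanceAs (QuasiCompact k)) _ hνs)
      ((isQuasiSeparatedSp_iff_mor X).1 hqs)
  let V := hνr.rep.pullback φ
  let νV : V ⟶ U' := hνr.rep.snd φ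
  let a : (yon S).obj V ⟶ Y := hνr.rep.fst φ
  have sqV : IsPullback a ((yon S).map νV) ν φ := hνr.rep.isPullback φ
  have : IsIntegralHom νV.left := hνr.property_snd φ
  have : IsAffine V.left := isAffine_of_isAffineHom νV.left
  have ha : RepWith @Etale a := repWith_of_isPullback sqV.flip hφ
  have has : RepWith @Surjective a := repWith_of_isPullback sqV.flip hφs
  let P := hφ.rep.pullback g₀
  let π : P ⟶ W := hφ.rep.snd g₀
  let q : P ⟶ U' := hφ.rep.fst' g₀
  have sqP : IsPullback ((yon S).map π) ((yon S).map q) g₀ φ := (hφ.rep.isPullback' g₀).flip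
  have : Etale π.left := hφ.property_snd g₀
  have : CompactSpace ↥P.left :=
    (isQuasiCompactSp_yon_iff P).1 (hgc (IsAlgSpace.yon_obj U') (isQuasiCompactSp_yon_affine U') φ _ _ sqP)
  have : QuasiSeparatedSpace ↥P.left := by
    let i : P ⟶ pullback (Over.mkIdTerminal.from W) (Over.mkIdTerminal.from U') :=
      pullback.lift π q (Over.mkIdTerminal.hom_ext _ _)
    have : Mono i := (yon S).mono_of_mono_map ⟨fun x y h => by
      have h1 := h =≫ (yon S).map (pullback.fst _ _)
      have h2 := h =≫ (yon S).map (pullback.snd _ _)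
      simp only [Category.assoc, ← Functor.map_comp, i, pullback.lift_fst, pullback.lift_snd] at h1 h2
      exact sqP.hom_ext h1 h2⟩
    have : Mono i.left := inferInstanceAs (Mono ((Over.forget S).map i))
    have hsq := (IsPullback.of_hasPullback (Over.mkIdTerminal.from W) (Over.mkIdTerminal.from U')).map (Over.forget S)
    have : IsSeparated (Over.mkIdTerminal.from U').left := inferInstance
    have : IsSeparated (pullback.fst (Over.mkIdTerminal.from W) (Over.mkIdTerminal.from U')).left :=
      MorphismProperty.of_isPullback (P := @IsSeparated) hsq.flip this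
    have : IsSeparated π.left := by
      rw [show π.left = i.left ≫ (pullback.fst (Over.mkIdTerminal.from W) (Over.mkIdTerminal.from U')).left by
        rw [← Over.comp_left, pullback.lift_fst]]
      infer_instance
    exact quasiSeparatedSpace_of_quasiSeparated π.left
  obtain ⟨j, hj⟩ := (yon S).map_surjective (sqV.lift ((yon S).map π ≫ f') ((yon S).map q)
    (by rw [Category.assoc, hst.fac, sqP.w]))
  have hja : (yon S).map j ≫ a = (yon S).map π ≫ f' := by rw [hj, sqV.lift_fst]
  have hjν : (yon S).map j ≫ (yon S).map νV = (yon S).map q := by rw [hj, sqV.lift_snd]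
  have hn : IsRelNormalization ((yon S).map q) ((yon S).map νV) ((yon S).map j) :=
    hst.normAt hX (IsAlgSpace.yon_obj U') (isEtaleMor_of_repWith hφ) _ _ _ _ _ sqP sqV hjν hja
  have sqj : IsPullback ((yon S).map π) ((yon S).map j) f' a := by
    refine IsPullback.of_bot ?_ hja.symm sqV
    rw [hst.fac, hjν]
    exact sqP
  have key : ∀ y : Points Y, ∃ (O : Over S) (o : O ⟶ V) (v : ↥O.left),
      RepWith @IsOpenImmersion ((yon S).map o ≫ a) ∧ Points.ofPt ((yon S).map o ≫ a) v = y := fun y => by
    obtain ⟨v, rfl⟩ := surjective_ofPt has y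
    obtain ⟨O, hv, hO⟩ := exists_open_chart hY hYqs ha sqj coheight_eq_zero_spec_pi isAlgClosed_residueField_pi hn v
    exact ⟨Over.mk (O.ι ≫ V.hom), CategoryTheory.Over.homMk O.ι rfl, (⟨v, hv⟩ : O.toScheme), hO,
      by rw [ofPt_comp]; rfl⟩
  obtain ⟨Q, ⟨e⟩⟩ := exists_rep_of_points hY fun y => by
    obtain ⟨O, o, v, h1, h2⟩ := key y
    exact ⟨O, _, v, h1, h2⟩
  have hsurj : Function.Surjective (Points.map ν) := fun x => by
    obtain ⟨u, rfl⟩ := surjective_ofPt hφs x
    let p : Spec (CommRingCat.of (K u)) ⟶ W.left := Spec.map (CommRingCat.ofHom (Pi.evalRingHom K u))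
    refine ⟨Points.ofPt f' (p (IsLocalRing.closedPoint (K u))), ?_⟩
    rw [Points.map_ofPt, hst.fac, ofPt_comp]
    congr 1
    have hp : p ≫ ω.left = ωu u := by
      show Spec.map _ ≫ Spec.map ev ≫ U'.left.isoSpec.inv = _
      rw [← Spec.map_comp_assoc, show ev ≫ CommRingCat.ofHom (Pi.evalRingHom K u) =
          Spec.preimage (ωu u ≫ U'.left.isoSpec.hom) from rfl, Spec.map_preimage, Category.assoc, Iso.hom_inv_id,
        Category.comp_id]
    rw [← Scheme.Hom.comp_apply, hp]
    exact U'.left.fromSpecResidueField_apply u _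
  refine ⟨Q, e.hom ≫ ν, repWith_comp (repWith_of_isIso _ _) hνr,
    repWith_surjective_of_surjective (repWith_comp (repWith_of_isIso @IsIntegralHom e.hom) hνr).rep
      (fun x => ?_), fun y => ?_⟩
  · obtain ⟨z, rfl⟩ := hsurj x
    exact ⟨Points.map e.inv z, by rw [← Points.map_comp, e.inv_hom_id_assoc]⟩
  · obtain ⟨O, o, v, h1, h2⟩ := key (Points.ofPt e.hom y)
    obtain ⟨o', ho'⟩ := (yon S).map_surjective ((yon S).map o ≫ a ≫ e.inv)
    have : IsOpenImmersion o'.left := by
      refine (repWith_yon_map_iff @IsOpenImmersion o').1 ?_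
      rw [ho', ← Category.assoc]
      exact repWith_comp h1 (repWith_of_isIso _ _)
    have hy : o'.left v = y := by
      have := congrArg (Points.map e.inv) h2
      rw [Points.map_ofPt, Points.map_ofPt, e.hom_inv_id, Category.assoc, ← ho',
        ← Category.comp_id ((yon S).map o'), ofPt_comp, Points.ofPt_eq_map_ofScheme,
        Points.ofPt_eq_map_ofScheme] at this
      have hid : ∀ z : Points ((yon S).obj Q), Points.map (𝟙 _) z = z := fun z => by
        induction z using Points.ind with
        | h x => rfl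
      rw [hid, hid] at this
      exact (Points.schemeHomeo Q).injective this
    let W' : Q.left.Opens := o'.left.opensRange
    let l : Over.mk (W'.ι ≫ Q.hom) ⟶ Q := CategoryTheory.Over.homMk W'.ι rfl
    have : IsOpenImmersion l.left := inferInstanceAs (IsOpenImmersion W'.ι)
    obtain ⟨c₀, hc₀⟩ := exists_factor_openImm o' l fun p => (p.2 : _)
    refine ⟨W', c₀ ≫ o ≫ νV ≫ k, ⟨v, hy⟩, ?_⟩
    show _ = (yon S).map l ≫ e.hom ≫ ν
    rw [← hc₀, Functor.map_comp, Functor.map_comp, Functor.map_comp, Functor.map_comp, Category.assoc,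
      Category.assoc, Category.assoc, Category.assoc]
    rw [reassoc_of% ho', e.inv_hom_id_assoc, sqV.w]

end Groth.Agent.IntCover
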