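import Groth.Agent.RelNorm.CodimZero
import Groth.Agent.HensCouple7.Gamma
import Mathlib.RingTheory.IntegralClosure.IsIntegralClosure.Basic

/-!
# Idempotents lift to a normalization
-/

set_option autoImplicit false
set_option backward.isDefEq.respectTransparency false
set_option backward.isDefEq.respectTransparency.types false

universe u

open CategoryTheory CategoryTheory.Limits AlgebraicGeometry AlgSp Groth.Agent.AlgSpLib Groth.Agent.AlgSpDec

namespace Groth.Agent.IntCover

variable {S : Scheme.{u}}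

/-- An idempotent function on the source comes from the normalization. -/
theorem exists_idempotent_lift {T P V : Over S} [IsAffine T.left] {q : P ⟶ T} {ν : V ⟶ T} {j : P ⟶ V}
    (hn : IsRelNormalization ((yon S).map q) ((yon S).map ν) ((yon S).map j)) (e : Γ(P.left, ⊤))
    (he : e * e = e) : ∃ b : Γ(V.left, ⊤), b * b = b ∧ j.left.appTop.hom b = e := by
  let : Algebra Γ(T.left, ⊤) Γ(P.left, ⊤) := q.left.appTop.hom.toAlgebra
  let C := Algebra.adjoin Γ(T.left, ⊤) {e}
  have hint : IsIntegral Γ(T.left, ⊤) e := ⟨Polynomial.X ^ 2 - Polynomial.X,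
    Polynomial.monic_X_pow_sub (lt_of_le_of_lt Polynomial.degree_X_le (by norm_num)), by simp [sq, he]⟩
  have : Module.Finite Γ(T.left, ⊤) C := ⟨(Submodule.fg_top _).2 hint.fg_adjoin_singleton⟩
  let c : Γ(T.left, ⊤) ⟶ CommRingCat.of C := CommRingCat.ofHom (algebraMap Γ(T.left, ⊤) C)
  let i : CommRingCat.of C ⟶ Γ(P.left, ⊤) := CommRingCat.ofHom C.val.toRingHom
  have hci : c ≫ i = q.left.appTop := CommRingCat.hom_ext (RingHom.ext fun x => rfl)
  have hτ : IsIntegralHom (Spec.map c ≫ T.left.isoSpec.inv) :=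
    (MorphismProperty.cancel_right_of_respectsIso @IsIntegralHom _ _).2
      (IsIntegralHom.SpecMap_iff.2 (algebraMap_isIntegral_iff.2 (Algebra.IsIntegral.of_finite Γ(T.left, ⊤) C)))
  let Z : Over S := Over.mk ((Spec.map c ≫ T.left.isoSpec.inv) ≫ T.hom)
  let τ : Z ⟶ T := CategoryTheory.Over.homMk (Spec.map c ≫ T.left.isoSpec.inv) rfl
  have hq : P.left.toSpecΓ ≫ Spec.map i ≫ Spec.map c ≫ T.left.isoSpec.inv = q.left := by
    rw [← Spec.map_comp_assoc, hci, ← Scheme.toSpecΓ_naturality_assoc]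
    show q.left ≫ T.left.isoSpec.hom ≫ T.left.isoSpec.inv = q.left
    rw [Iso.hom_inv_id, Category.comp_id]
  let γ : P ⟶ Z := CategoryTheory.Over.homMk (P.left.toSpecΓ ≫ Spec.map i) (by
    show (P.left.toSpecΓ ≫ Spec.map i) ≫ (Spec.map c ≫ T.left.isoSpec.inv) ≫ T.hom = P.hom
    rw [Category.assoc, ← Over.w q]
    conv_rhs => rw [← hq]
    simp only [Category.assoc])
  have hγ : γ ≫ τ = q := Over.OverMorphism.ext (by
    show (P.left.toSpecΓ ≫ Spec.map i) ≫ Spec.map c ≫ T.left.isoSpec.inv = q.left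
    rw [Category.assoc, hq])
  obtain ⟨h, ⟨h1, -⟩, -⟩ := hn.2.2 (IsAlgSpace.yon_obj Z) ((yon S).map τ) ((yon S).map γ)
    (isIntegralMor_iff_repWith.2 ((repWith_yon_map_iff @IsIntegralHom τ).2 hτ))
    (by rw [← Functor.map_comp, hγ])
  obtain ⟨h, rfl⟩ := (yon S).map_surjective h
  rw [← Functor.map_comp] at h1
  have h1' : j ≫ h = γ := (yon S).map_injective h1
  let e' : C := ⟨e, Algebra.self_mem_adjoin_singleton _ _⟩
  have he' : e' * e' = e' := Subtype.ext he
  let ψ : CommRingCat.of C ⟶ Γ(V.left, ⊤) := (Scheme.ΓSpecIso (CommRingCat.of C)).inv ≫ h.left.appTop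
  refine ⟨ψ.hom e', by rw [← map_mul, he'], ?_⟩
  have : ψ ≫ j.left.appTop = i := by
    have h2 := congrArg (fun k : P ⟶ Z => k.left.appTop) h1'
    simp only [Over.comp_left, Scheme.Hom.comp_appTop] at h2
    simp only [ψ, Category.assoc, h2]
    show (Scheme.ΓSpecIso _).inv ≫ (P.left.toSpecΓ ≫ Spec.map i).appTop = i
    simp [Scheme.toSpecΓ_appTop, Scheme.ΓSpecIso_naturality]
  exact congrArg (fun k => k.hom e') this

end Groth.Agent.IntCover
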