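import Mathlib.AlgebraicGeometry.ResidueField
import Mathlib.AlgebraicGeometry.Properties
import Mathlib.FieldTheory.IsAlgClosed.Basic
import Mathlib.RingTheory.Ideal.Quotient.Operations
import Mathlib.RingTheory.LocalRing.ResidueField.Ideal

/-!
# Products of algebraically closed fields
-/

set_option autoImplicit false
set_option backward.isDefEq.respectTransparency false
set_option backward.isDefEq.respectTransparency.types false

universe u

open CategoryTheory AlgebraicGeometry Polynomial

namespace Groth.Agent.IntCover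

variable {ι : Type u} {K : ι → Type u} [∀ i, Field (K i)]

theorem isMaximal_of_isPrime_pi (P : Ideal (∀ i, K i)) [P.IsPrime] : P.IsMaximal := by
  refine Ideal.isMaximal_iff.2 ⟨fun h => ‹P.IsPrime›.ne_top ((Ideal.eq_top_iff_one _).2 h), ?_⟩
  intro J a hPJ haP haJ
  let b : ∀ i, K i := fun i => (a i)⁻¹
  have h : a * (1 - a * b) = 0 := funext fun i => by
    by_cases hi : a i = 0
    · simp [hi]
    · simp [b, hi]
  have h1 : 1 - a * b ∈ J :=
    hPJ (((‹P.IsPrime›.mem_or_mem (h ▸ P.zero_mem)).resolve_left haP))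
  have := J.add_mem h1 (J.mul_mem_right b haJ)
  rwa [sub_add_cancel] at this

theorem isAlgClosed_of_surjective_pi [∀ i, IsAlgClosed (K i)] {L : Type u} [Field L] (ψ : (∀ i, K i) →+* L)
    (hψ : Function.Surjective ψ) : IsAlgClosed L := by
  refine IsAlgClosed.of_exists_root L fun p hp hirr => ?_
  have hd : p.natDegree ≠ 0 := fun h => hirr.not_isUnit (by rw [eq_one_of_monic_natDegree_zero hp h]; exact isUnit_one)
  obtain ⟨q, hq, hqd, hqm⟩ := lifts_and_degree_eq_and_monic
    (show p ∈ lifts ψ from (lifts_iff_coeff_lifts p).2 fun n => hψ _) hp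
  have hdeg : ∀ i, ((q.map (Pi.evalRingHom K i))).degree ≠ 0 := fun i => by
    rw [hqm.degree_map, hqd, degree_eq_natDegree hp.ne_zero]
    exact_mod_cast hd
  choose r hr using fun i => IsAlgClosed.exists_root (q.map (Pi.evalRingHom K i)) (hdeg i)
  refine ⟨ψ r, ?_⟩
  rw [← hq, eval_map_apply]
  have : q.eval r = 0 := funext fun i => by
    show Pi.evalRingHom K i (q.eval r) = 0
    rw [← eval_map_apply]
    exact hr i
  rw [this, map_zero]

theorem isAlgClosed_residueField_pi [∀ i, IsAlgClosed (K i)] (w : Spec (CommRingCat.of (∀ i, K i))) :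
    IsAlgClosed ((Spec (CommRingCat.of (∀ i, K i))).residueField w) := by
  have hs : Function.Surjective (algebraMap (∀ i, K i) w.asIdeal.ResidueField) := by
    have := isMaximal_of_isPrime_pi w.asIdeal
    intro x
    obtain ⟨y, rfl⟩ := (Ideal.bijective_algebraMap_quotient_residueField w.asIdeal).2 x
    obtain ⟨y, rfl⟩ := Ideal.Quotient.mk_surjective y
    exact ⟨y, rfl⟩
  have := isAlgClosed_of_surjective_pi _ hs
  exact IsAlgClosed.of_ringEquiv _ _ (Scheme.Spec.residueFieldIso _ w).symm.commRingCatIsoToRingEquiv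

theorem coheight_eq_zero_spec_pi (w : Spec (CommRingCat.of (∀ i, K i))) : Order.coheight w = 0 := by
  rw [Order.coheight_eq_zero]
  intro z hz
  have h1 : z.asIdeal ≤ w.asIdeal := (PrimeSpectrum.le_iff_specializes _ _).2 (Scheme.le_iff_specializes.1 hz)
  have := isMaximal_of_isPrime_pi z.asIdeal
  have h2 : z = w := PrimeSpectrum.ext (this.eq_of_le w.isPrime.ne_top h1)
  exact le_of_eq h2

end Groth.Agent.IntCover
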